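import Mathlib
import Cfsg.Agent.Lib.Helper79.NilCover.Defs

set_option autoImplicit false

/-! Package [CEN] of project S3894: a nontrivial nilpotent subgroup has a nontrivial central
element. -/

namespace Cfsg.Agent.Lib.Helper61.NilCover

open Cfsg.Agent.Lib.Helper79.NilCover

universe u

theorem pkgCenter : PkgCenter.{u} := by
  intro Γ _ K hK x hx hx1
  have hnt : Nontrivial ↥K := by
    refine ⟨⟨⟨x, hx⟩, 1, ?_⟩⟩
    intro h
    exact hx1 (congrArg Subtype.val h)
  have hc : Subgroup.center ↥K ≠ ⊥ := Group.IsNilpotent.center_ne_bot ↥K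
  obtain ⟨z, hz1⟩ := (Subgroup.ne_bot_iff_exists_ne_one).mp hc
  refine ⟨((z : ↥K) : Γ), (z : ↥K).2, ?_, ?_⟩
  · intro h
    apply hz1
    apply Subtype.ext
    apply Subtype.ext
    exact h
  · intro k hk
    have h1 := Subgroup.mem_center_iff.mp z.2 ⟨k, hk⟩
    exact congrArg Subtype.val h1

end Cfsg.Agent.Lib.Helper61.NilCover
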