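import Mathlib
import Cfsg.Agent.Lib.Helper79.NilCover.Defs

set_option autoImplicit false

/-! Package [CZ] of project S3894: the centraliser of a non-scalar `2 × 2` matrix `z` is
`span(1, z)`. -/

namespace Cfsg.Agent.Lib.Helper61.NilCover

open Cfsg.Agent.Lib.Helper79.NilCover Matrix

universe u

theorem mat2_eq_of_entries {F : Type u} [Field F] (t z : Matrix (Fin 2) (Fin 2) F) (α β : F)
    (h00 : t 0 0 = α + β * z 0 0) (h01 : t 0 1 = β * z 0 1) (h10 : t 1 0 = β * z 1 0)
    (h11 : t 1 1 = α + β * z 1 1) : t = α • (1 : Matrix (Fin 2) (Fin 2) F) + β • z := by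
  ext i j
  fin_cases i <;> fin_cases j
  · simpa using h00
  · simpa using h01
  · simpa using h10
  · simpa using h11

theorem pkgCentralizer : PkgCentralizer.{u} := by
  intro F _ z t hz h
  have h00 : z 0 0 * t 0 0 + z 0 1 * t 1 0 = t 0 0 * z 0 0 + t 0 1 * z 1 0 := by
    have h1 := congrFun (congrFun h 0) 0
    simpa [Matrix.mul_apply, Fin.sum_univ_two] using h1
  have h01 : z 0 0 * t 0 1 + z 0 1 * t 1 1 = t 0 0 * z 0 1 + t 0 1 * z 1 1 := by
    have h1 := congrFun (congrFun h 0) 1
    simpa [Matrix.mul_apply, Fin.sum_univ_two] using h1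
  have h10 : z 1 0 * t 0 0 + z 1 1 * t 1 0 = t 1 0 * z 0 0 + t 1 1 * z 1 0 := by
    have h1 := congrFun (congrFun h 1) 0
    simpa [Matrix.mul_apply, Fin.sum_univ_two] using h1
  have h11 : z 1 0 * t 0 1 + z 1 1 * t 1 1 = t 1 0 * z 0 1 + t 1 1 * z 1 1 := by
    have h1 := congrFun (congrFun h 1) 1
    simpa [Matrix.mul_apply, Fin.sum_univ_two] using h1
  by_cases hb : z 0 1 = 0
  · by_cases hc : z 1 0 = 0
    · have had : z 0 0 ≠ z 1 1 := by
        rcases hz with h1 | h1 | h1
        · exact absurd hb h1
        · exact absurd hc h1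
        · exact h1
      have had' : z 0 0 - z 1 1 ≠ 0 := sub_ne_zero.mpr had
      have hf : t 0 1 = 0 := by
        have h2 : t 0 1 * (z 0 0 - z 1 1) = 0 := by
          rw [hb] at h01; linear_combination h01
        rcases mul_eq_zero.mp h2 with h3 | h3
        · exact h3
        · exact absurd h3 had'
      have hg : t 1 0 = 0 := by
        have h2 : t 1 0 * (z 0 0 - z 1 1) = 0 := by
          rw [hc] at h10; linear_combination -h10
        rcases mul_eq_zero.mp h2 with h3 | h3
        · exact h3
        · exact absurd h3 had'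
      refine ⟨t 0 0 - (t 0 0 - t 1 1) / (z 0 0 - z 1 1) * z 0 0,
        (t 0 0 - t 1 1) / (z 0 0 - z 1 1), ?_⟩
      apply mat2_eq_of_entries
      · ring
      · rw [hf, hb, mul_zero]
      · rw [hg, hc, mul_zero]
      · field_simp
        ring
    · refine ⟨t 0 0 - t 1 0 / z 1 0 * z 0 0, t 1 0 / z 1 0, ?_⟩
      apply mat2_eq_of_entries
      · ring
      · field_simp
        linear_combination h11
      · field_simp
      · field_simp
        linear_combination -h10
  · refine ⟨t 0 0 - t 0 1 / z 0 1 * z 0 0, t 0 1 / z 0 1, ?_⟩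
    apply mat2_eq_of_entries
    · ring
    · field_simp
    · field_simp
      linear_combination h00
    · field_simp
      linear_combination h01

end Cfsg.Agent.Lib.Helper61.NilCover
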