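import Mathlib
import Cfsg.Agent.Lib.Helper79.NilCover.Defs

set_option autoImplicit false

/-! Package [CD] of project S3894: a matrix commuting with `diag(d₁, d₂)`, `d₁ ≠ d₂`, is
diagonal. -/

namespace Cfsg.Agent.Lib.Helper61.NilCover

open Cfsg.Agent.Lib.Helper79.NilCover Matrix

universe u

theorem pkgCommDiag : PkgCommDiag.{u} := by
  intro F _ z d₁ d₂ hd h
  have h01 : z 0 1 * d₂ = d₁ * z 0 1 := by
    have h1 := congrFun (congrFun h 0) 1
    simpa [Matrix.mul_apply, Fin.sum_univ_two] using h1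
  have h10 : z 1 0 * d₁ = d₂ * z 1 0 := by
    have h1 := congrFun (congrFun h 1) 0
    simpa [Matrix.mul_apply, Fin.sum_univ_two] using h1
  have hd' : d₁ - d₂ ≠ 0 := sub_ne_zero.mpr hd
  constructor
  · have h2 : z 0 1 * (d₁ - d₂) = 0 := by linear_combination -h01
    rcases mul_eq_zero.mp h2 with h3 | h3
    · exact h3
    · exact absurd h3 hd'
  · have h2 : z 1 0 * (d₁ - d₂) = 0 := by linear_combination h10
    rcases mul_eq_zero.mp h2 with h3 | h3
    · exact h3
    · exact absurd h3 hd'

end Cfsg.Agent.Lib.Helper61.NilCover
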