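import Mathlib
import Cfsg.Agent.Lib.Helper79.NilCover.Defs

set_option autoImplicit false

/-! Package [RIG] of project S3894: if `z t = c t z` with `t`, `z` invertible and (`tr t ≠ 0` or
characteristic 2), then `z t = t z`. -/

namespace Cfsg.Agent.Lib.Helper61.NilCover

open Cfsg.Agent.Lib.Helper79.NilCover Matrix

universe u

theorem pkgRigid : PkgRigid.{u} := by
  intro F _ t z ht hz htr c h
  have h00 : z 0 0 * t 0 0 + z 0 1 * t 1 0 = c * (t 0 0 * z 0 0 + t 0 1 * z 1 0) := by
    have h1 := congrFun (congrFun h 0) 0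
    simpa [Matrix.mul_apply, Fin.sum_univ_two] using h1
  have h01 : z 0 0 * t 0 1 + z 0 1 * t 1 1 = c * (t 0 0 * z 0 1 + t 0 1 * z 1 1) := by
    have h1 := congrFun (congrFun h 0) 1
    simpa [Matrix.mul_apply, Fin.sum_univ_two] using h1
  have h10 : z 1 0 * t 0 0 + z 1 1 * t 1 0 = c * (t 1 0 * z 0 0 + t 1 1 * z 1 0) := by
    have h1 := congrFun (congrFun h 1) 0
    simpa [Matrix.mul_apply, Fin.sum_univ_two] using h1
  have h11 : z 1 0 * t 0 1 + z 1 1 * t 1 1 = c * (t 1 0 * z 0 1 + t 1 1 * z 1 1) := by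
    have h1 := congrFun (congrFun h 1) 1
    simpa [Matrix.mul_apply, Fin.sum_univ_two] using h1
  have hzd : z 0 0 * z 1 1 - z 0 1 * z 1 0 ≠ 0 := by
    rw [← Matrix.det_fin_two]; exact hz
  have htd : t 0 0 * t 1 1 - t 0 1 * t 1 0 ≠ 0 := by
    rw [← Matrix.det_fin_two]; exact ht
  have hc2 : c ^ 2 = 1 := by
    have h1 : (z 0 0 * z 1 1 - z 0 1 * z 1 0) * (t 0 0 * t 1 1 - t 0 1 * t 1 0) * (c ^ 2 - 1) = 0 := by
      have hdet := congrArg Matrix.det h
      rw [Matrix.det_mul, Matrix.det_smul, Matrix.det_mul, Fintype.card_fin, Matrix.det_fin_two,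
        Matrix.det_fin_two] at hdet
      linear_combination -hdet
    rcases mul_eq_zero.mp h1 with h2 | h2
    · rcases mul_eq_zero.mp h2 with h3 | h3
      · exact absurd h3 hzd
      · exact absurd h3 htd
    · exact sub_eq_zero.mp h2
  have hc1 : c = 1 := by
    rcases htr with htr | h2
    · have htr' : t 0 0 + t 1 1 ≠ 0 := by
        rw [Matrix.trace_fin_two] at htr; exact htr
      have h1 : (z 0 0 * z 1 1 - z 0 1 * z 1 0) * (t 0 0 + t 1 1) * (1 - c) = 0 := by
        linear_combination z 1 1 * h00 - z 1 0 * h01 - z 0 1 * h10 + z 0 0 * h11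
      rcases mul_eq_zero.mp h1 with h2 | h2
      · rcases mul_eq_zero.mp h2 with h3 | h3
        · exact absurd h3 hzd
        · exact absurd h3 htr'
      · exact (sub_eq_zero.mp h2).symm
    · have h1 : (c - 1) ^ 2 = 0 := by
        linear_combination hc2 + (1 - c) * h2
      exact sub_eq_zero.mp (pow_eq_zero_iff (by norm_num) |>.mp h1)
  rw [h, hc1, one_smul]

end Cfsg.Agent.Lib.Helper61.NilCover
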